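import Groth.Agent.Lib.Smoothing.LocalJacobian
import Groth.Agent.Lib.Smoothing.Standard
import Groth.Agent.Lib.Smoothing.Linearize
import Groth.Agent.Lib.Cyc.SmoothReg
import Groth.Agent.Lib.Regular.Quotient
import Mathlib.RingTheory.RingHom.LocallyStandardSmooth
import Mathlib.RingTheory.Kaehler.Basic
import Mathlib.LinearAlgebra.FreeModule.PID

/-!
# Smoothness at special points from free differentials
-/

universe u

open MvPolynomial IsLocalRing
open scoped TensorProduct

namespace Groth.Agent.Lib.Smoothing.Neron.Basic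

/-- Smoothness at a prime where some relations generate all and have an invertible minor. -/
theorem isSmoothAt_of_leading {R A : Type u} [CommRing R] [CommRing A] [Algebra R A] {n m c : ℕ}
    (φ : MvPolynomial (Fin n) R →ₐ[R] A) (hφ : Function.Surjective φ)
    (f : Fin m → MvPolynomial (Fin n) R) (hker : RingHom.ker φ.toRingHom = Ideal.span (Set.range f))
    (f' : Fin c → MvPolynomial (Fin n) R) (hf' : ∀ l, φ (f' l) = 0) (cols : Fin c → Fin n)
    (h : MvPolynomial (Fin n) R) (hh : ∀ k, h * f k ∈ Ideal.span (Set.range f'))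
    (p : Ideal A) [p.IsPrime]
    (hp : φ (h * (Matrix.of fun j l => pderiv (cols l) (f' j)).det) ∉ p) : Algebra.IsSmoothAt R p := by
  classical
  have hcols : Function.Injective cols := by
    intro a b hab
    by_contra hne
    refine hp ?_
    rw [Matrix.det_zero_of_column_eq hne fun j => by simp [hab], mul_zero, map_zero]
    exact p.zero_mem
  have hcn : c ≤ n := by simpa using Fintype.card_le_of_injective cols hcols
  let rel : Fin (c + m) → MvPolynomial (Fin n) R := Fin.append f' f
  have hspan : Ideal.span (Set.range rel) = Ideal.span (Set.range f) := by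
    refine le_antisymm (Ideal.span_le.2 ?_) (Ideal.span_le.2 ?_)
    · rintro _ ⟨i, rfl⟩
      refine Fin.addCases (fun i => ?_) (fun i => ?_) i
      · show Fin.append f' f _ ∈ _
        rw [Fin.append_left]
        exact hker.le (hf' i)
      · show Fin.append f' f _ ∈ _
        rw [Fin.append_right]
        exact Ideal.subset_span ⟨i, rfl⟩
    · rintro _ ⟨i, rfl⟩
      exact Ideal.subset_span ⟨Fin.natAdd c i, Fin.append_right _ _ i⟩
  have : Algebra.FinitePresentation R A := Algebra.FinitePresentation.of_surjective hφ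
    (by show (RingHom.ker φ.toRingHom).FG; rw [hker]; exact Submodule.fg_span (Set.finite_range f))
  let P : _root_.Smoothing.MarkedPresentation R A :=
    { n := n
      m := c + m
      c := c
      hcn := hcn
      hcm := Nat.le_add_right c m
      rel := rel
      hom := φ
      surj := hφ
      ker_eq := hker.trans hspan.symm }
  have hstd : _root_.Smoothing.IsStrictlyStandard R A
      (φ (h * (Matrix.of fun j l => pderiv (cols l) (f' j)).det)) := by
    refine ⟨P, ?_, ?_⟩
    · rw [map_mul]
      refine Ideal.mul_mem_left _ _ (Ideal.subset_span ⟨cols, ?_⟩)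
      show φ (_root_.Smoothing.jacobianMinor rel (Fin.castLE (Nat.le_add_right c m)) cols) = _
      congr 1
      rw [_root_.Smoothing.jacobianMinor]
      congr 1
      refine Matrix.ext fun j l => ?_
      simp only [Matrix.of_apply]
      rw [show rel (Fin.castLE (Nat.le_add_right c m) j) = f' j from Fin.append_left _ _ j]
    · intro a' ha' j hj
      set Δ := (Matrix.of fun j l => pderiv (cols l) (f' j)).det
      have hlead : Ideal.span (Set.range f') ≤ Ideal.span (rel '' {j' : Fin (c + m) | (j' : ℕ) < c}) := by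
        refine Ideal.span_le.2 ?_
        rintro _ ⟨l, rfl⟩
        exact Ideal.subset_span ⟨Fin.castAdd m l, l.2, Fin.append_left _ _ l⟩
      obtain ⟨i, rfl⟩ : ∃ i : Fin m, j = Fin.natAdd c i := by
        refine ⟨⟨(j : ℕ) - c, ?_⟩, Fin.ext ?_⟩
        · have h1 := j.2
          have h2 : c ≤ (j : ℕ) := hj
          simp only [P] at h1
          omega
        · have h2 : c ≤ (j : ℕ) := hj
          show (j : ℕ) = c + ((j : ℕ) - c)
          omega
      show a' * rel (Fin.natAdd c i) ∈ _
      rw [show a' * rel (Fin.natAdd c i) = h * Δ * rel (Fin.natAdd c i) + (a' - h * Δ) * rel (Fin.natAdd c i) by ring]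
      refine Ideal.add_mem _ (Ideal.mem_sup_left ?_) (Ideal.mem_sup_right ?_)
      · rw [show rel (Fin.natAdd c i) = f i from Fin.append_right _ _ i, mul_comm h, mul_assoc]
        exact Ideal.mul_mem_left _ _ (hlead (hh i))
      · rw [pow_two]
        refine Ideal.mul_mem_mul ?_ (Ideal.subset_span ⟨_, rfl⟩)
        show a' - h * Δ ∈ Ideal.span (Set.range rel)
        rw [hspan, ← hker]
        show φ (a' - h * Δ) = 0
        rw [map_sub, sub_eq_zero]
        exact ha'
  have := (Standard.smooth_stablyFree _ hstd).1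
  exact Linearize.isSmoothAt_of_smooth_away p hp

/-- Smooth algebras over regular rings are regular. -/
theorem isRegularLocalRing_of_isSmoothAt {R A : Type u} [CommRing R] [IsRegularRing R] [CommRing A]
    [Algebra R A] [Algebra.FinitePresentation R A] (p : Ideal A) [p.IsPrime] [Algebra.IsSmoothAt R p] :
    IsRegularLocalRing (Localization.AtPrime p) := by
  obtain ⟨h, hh, hsm⟩ := Algebra.IsSmoothAt.exists_notMem_smooth (R := R) p
  obtain ⟨S₀, hS₀, hstd⟩ := Algebra.Smooth.exists_span_eq_top_isStandardSmooth R (Localization.Away h)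
  obtain ⟨P, hP⟩ : ∃ P : Ideal (Localization.Away h), P = p.map (algebraMap A (Localization.Away h)) := ⟨_, rfl⟩
  have hdis : Disjoint ((Submonoid.powers h : Submonoid A) : Set A) (p : Set A) := by
    rw [Set.disjoint_left]
    rintro _ ⟨k, rfl⟩ hk
    exact hh (Ideal.IsPrime.mem_of_pow_mem inferInstance k hk)
  have hPp : P.IsPrime := hP ▸ IsLocalization.isPrime_of_isPrime_disjoint (Submonoid.powers h) _ p inferInstance hdis
  have hPc : P.comap (algebraMap A (Localization.Away h)) = p :=
    hP ▸ IsLocalization.comap_map_of_isPrime_disjoint (Submonoid.powers h) _ inferInstance hdis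
  obtain ⟨t, htS, ht⟩ : ∃ t ∈ S₀, t ∉ P := by
    by_contra! hcon
    exact hPp.ne_top (top_le_iff.1 (hS₀ ▸ Ideal.span_le.2 hcon))
  let Bt := Localization.Away t
  obtain ⟨d, g, -, hg⟩ := RingHom.IsStandardSmooth.exists_etale_mvPolynomial
    (RingHom.isStandardSmooth_algebraMap.2 (hstd t htS))
  let _ : Algebra (MvPolynomial (Fin d) R) Bt := g.toAlgebra
  have : Algebra.Etale (MvPolynomial (Fin d) R) Bt := RingHom.etale_algebraMap.1 hg
  have hdis' : Disjoint ((Submonoid.powers t : Submonoid (Localization.Away h)) : Set _) (P : Set (Localization.Away h)) := by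
    rw [Set.disjoint_left]
    rintro _ ⟨k, rfl⟩ hk
    exact ht (hPp.mem_of_pow_mem k hk)
  let Q : Ideal Bt := P.map (algebraMap (Localization.Away h) Bt)
  have hQp : Q.IsPrime := IsLocalization.isPrime_of_isPrime_disjoint (Submonoid.powers t) _ P hPp hdis'
  have hQc : Q.comap (algebraMap (Localization.Away h) Bt) = P :=
    IsLocalization.comap_map_of_isPrime_disjoint (Submonoid.powers t) _ hPp hdis'
  have hreg : IsRegularLocalRing (Localization.AtPrime Q) :=
    Cyc.SmoothReg.isRegularLocalRing_of_etale (P := MvPolynomial (Fin d) R) Q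
  have h₁ : IsRegularLocalRing (Localization.AtPrime P) := by
    have : IsLocalization.AtPrime (Localization.AtPrime Q) (Q.comap (algebraMap (Localization.Away h) Bt)) :=
      IsLocalization.isLocalization_isLocalization_atPrime_isLocalization (Submonoid.powers t) _ Q
    have : IsLocalization.AtPrime (Localization.AtPrime Q) P := by
      have hc : (Q.comap (algebraMap (Localization.Away h) Bt)).primeCompl = P.primeCompl := by
        ext z; exact not_congr (SetLike.ext_iff.1 hQc z)
      show IsLocalization P.primeCompl _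
      rw [← hc]; infer_instance
    exact IsRegularLocalRing.of_ringEquiv (R := Localization.AtPrime Q)
      (IsLocalization.algEquiv P.primeCompl (Localization.AtPrime Q) (Localization.AtPrime P)).toRingEquiv
  have : IsLocalization.AtPrime (Localization.AtPrime P) (P.comap (algebraMap A (Localization.Away h))) :=
    IsLocalization.isLocalization_isLocalization_atPrime_isLocalization (Submonoid.powers h) _ P
  have : IsLocalization.AtPrime (Localization.AtPrime P) p := by
    have hc : (P.comap (algebraMap A (Localization.Away h))).primeCompl = p.primeCompl := by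
      ext z; exact not_congr (SetLike.ext_iff.1 hPc z)
    show IsLocalization p.primeCompl _
    rw [← hc]; infer_instance
  exact IsRegularLocalRing.of_ringEquiv (R := Localization.AtPrime P)
    (IsLocalization.algEquiv p.primeCompl (Localization.AtPrime P) (Localization.AtPrime p)).toRingEquiv

/-- Gradient of a polynomial at a point. -/
noncomputable def grad {R Λ : Type u} [CommRing R] [CommRing Λ] [Algebra R Λ] {n : ℕ} (a : Fin n → Λ)
    (f : MvPolynomial (Fin n) R) : Fin n → Λ := fun i => aeval a (pderiv i f)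

theorem grad_mul {R Λ : Type u} [CommRing R] [CommRing Λ] [Algebra R Λ] {n : ℕ} (a : Fin n → Λ)
    (f g : MvPolynomial (Fin n) R) :
    grad a (f * g) = aeval a g • grad a f + aeval a f • grad a g := by
  funext i
  simp only [grad, pderiv_mul, map_add, map_mul, Pi.add_apply, Pi.smul_apply, smul_eq_mul]
  ring

/-- A basis-changing minor: if the differentials of the relations span a direct summand, some of the
relations have an invertible minor and their differentials span all the others. -/
theorem exists_minor {R A Λ : Type u} [CommRing R] [CommRing A] [Algebra R A] [CommRing Λ] [IsDomain Λ]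
    [IsPrincipalIdealRing Λ] [IsLocalRing Λ] [Algebra R Λ] [Algebra A Λ] [IsScalarTower R A Λ] {n m : ℕ}
    (φ : MvPolynomial (Fin n) R →ₐ[R] A) (hφ : Function.Surjective φ)
    (f : Fin m → MvPolynomial (Fin n) R) (hker : RingHom.ker φ.toRingHom = Ideal.span (Set.range f))
    (hfree : Module.Free Λ (Λ ⊗[A] Ω[A⁄R])) :
    ∃ (c : ℕ) (s : Fin c → Fin m) (cols : Fin c → Fin n),
      algebraMap A Λ (φ (Matrix.of fun j l => pderiv (cols l) (f (s j))).det) ∉ maximalIdeal Λ ∧
      ∀ k, ∃ T : Fin c → Λ, grad (fun i => algebraMap A Λ (φ (X i))) (f k) =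
        ∑ j, T j • grad (fun i => algebraMap A Λ (φ (X i))) (f (s j)) := by
  classical
  let a : Fin n → Λ := fun i => algebraMap A Λ (φ (X i))
  have hev : ∀ z, aeval a z = algebraMap A Λ (φ z) := fun z => by
    suffices aeval a = (IsScalarTower.toAlgHom R A Λ).comp φ from DFunLike.congr_fun this z
    exact MvPolynomial.algHom_ext fun i => by simp [a]
  let W : Submodule Λ (Fin n → Λ) := Submodule.span Λ (Set.range fun k => grad a (f k))
  let Q := (Fin n → Λ) ⧸ W
  have hgrad0 : ∀ z ∈ Ideal.span (Set.range f), grad a z ∈ W := by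
    intro z hz
    obtain ⟨g, rfl⟩ := (Submodule.mem_span_range_iff_exists_fun _).1 hz
    rw [show grad a (∑ k, g k • f k) = ∑ k, grad a (g k * f k) by
      funext i; simp [grad, map_sum, Finset.sum_apply]]
    refine Submodule.sum_mem _ fun k _ => ?_
    rw [grad_mul, hev (f k), show φ (f k) = 0 from hker.ge (Ideal.subset_span ⟨k, rfl⟩), map_zero,
      zero_smul, zero_add]
    exact Submodule.smul_mem _ _ (Submodule.subset_span ⟨k, rfl⟩)
  -- the derivation into the cokernel
  let d₀ : MvPolynomial (Fin n) R →+ Q :=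
    AddMonoidHom.mk' (fun z => Submodule.Quotient.mk (grad a z)) fun x y => by
      rw [← Submodule.Quotient.mk_add]
      congr 1
      funext i
      simp [grad]
  choose lift hlift using hφ
  have hwd : ∀ z w, φ z = φ w → d₀ z = d₀ w := fun z w hzw => by
    rw [← sub_eq_zero, ← map_sub]
    exact (Submodule.Quotient.mk_eq_zero W).2 (hgrad0 _ (hker.le (by
      show φ (z - w) = 0
      rw [map_sub, hzw, sub_self])))
  let dA : Derivation R A Q :=
    { toLinearMap :=
        { toFun := fun x => d₀ (lift x)
          map_add' := fun x y => by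
            rw [← map_add]
            exact hwd _ _ (by rw [map_add, hlift, hlift, hlift])
          map_smul' := fun r x => by
            rw [RingHom.id_apply, hwd (lift (r • x)) (r • lift x) (by rw [map_smul, hlift, hlift])]
            show Submodule.Quotient.mk _ = r • Submodule.Quotient.mk _
            rw [← Submodule.Quotient.mk_smul]
            congr 1
            funext i
            simp [grad] }
      map_one_eq_zero' := by
        show d₀ (lift 1) = 0
        rw [hwd (lift 1) 1 (by rw [hlift, map_one])]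
        show Submodule.Quotient.mk _ = (0 : Q)
        rw [show grad a (1 : MvPolynomial (Fin n) R) = 0 by funext i; simp [grad]]
        rfl
      leibniz' := fun x y => by
        show d₀ (lift (x * y)) = x • d₀ (lift y) + y • d₀ (lift x)
        rw [hwd (lift (x * y)) (lift x * lift y) (by rw [map_mul, hlift, hlift, hlift])]
        show Submodule.Quotient.mk _ = x • Submodule.Quotient.mk _ + y • Submodule.Quotient.mk _
        rw [← algebraMap_smul Λ x, ← algebraMap_smul Λ y, ← Submodule.Quotient.mk_smul,
          ← Submodule.Quotient.mk_smul, ← Submodule.Quotient.mk_add, grad_mul, hev, hev, hlift, hlift]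
        rw [add_comm] }
  let Ψ : Λ ⊗[A] Ω[A⁄R] →ₗ[Λ] Q := LinearMap.liftBaseChange Λ dA.liftKaehlerDifferential
  let Φ₀ : (Fin n → Λ) →ₗ[Λ] Λ ⊗[A] Ω[A⁄R] :=
    Fintype.linearCombination Λ fun i => (1 : Λ) ⊗ₜ[A] KaehlerDifferential.D R A (φ (X i))
  have hchain : ∀ z, Φ₀ (grad a z) = (1 : Λ) ⊗ₜ[A] KaehlerDifferential.D R A (φ z) := by
    intro z
    induction z using MvPolynomial.induction_on with
    | C r =>
      rw [show grad a (C r) = 0 by funext i; simp [grad], map_zero,
        show φ (C r) = algebraMap R A r from φ.commutes r, Derivation.map_algebraMap, TensorProduct.tmul_zero]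
    | add u v hu hv =>
      rw [show grad a (u + v) = grad a u + grad a v by funext i; simp [grad], map_add, hu, hv, map_add,
        map_add, TensorProduct.tmul_add]
    | mul_X u i hu =>
      rw [grad_mul, map_add, map_smul, map_smul, hu, map_mul, Derivation.leibniz, TensorProduct.tmul_add,
        TensorProduct.tmul_smul, TensorProduct.tmul_smul, hev, hev, algebraMap_smul, algebraMap_smul, add_comm]
      congr 2
      rw [show grad a (X i) = Pi.single i 1 by
        funext j
        rcases eq_or_ne j i with rfl | h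
        · simp [grad]
        · simp [grad, pderiv_X_of_ne (Ne.symm h), Pi.single_eq_of_ne h]]
      rw [Fintype.linearCombination_apply_single, one_smul]
  have hΦW : W ≤ LinearMap.ker Φ₀ := by
    refine Submodule.span_le.2 ?_
    rintro _ ⟨k, rfl⟩
    show Φ₀ (grad a (f k)) = 0
    rw [hchain, show φ (f k) = 0 from hker.ge (Ideal.subset_span ⟨k, rfl⟩), map_zero, TensorProduct.tmul_zero]
  have hΨΦ : ∀ v, Ψ (Φ₀ v) = Submodule.Quotient.mk v := by
    intro v
    suffices Ψ ∘ₗ Φ₀ = W.mkQ from LinearMap.congr_fun this v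
    refine (Pi.basisFun Λ (Fin n)).ext fun i => ?_
    show Ψ (Φ₀ (Pi.basisFun Λ (Fin n) i)) = Submodule.Quotient.mk _
    rw [Pi.basisFun_apply, Fintype.linearCombination_apply_single, one_smul, LinearMap.liftBaseChange_tmul,
      one_smul, Derivation.liftKaehlerDifferential_comp_D]
    show d₀ (lift (φ (X i))) = _
    rw [hwd (lift (φ (X i))) (X i) (hlift _)]
    show Submodule.Quotient.mk _ = _
    congr 1
    funext j
    rcases eq_or_ne j i with rfl | h
    · simp [grad]
    · simp [grad, pderiv_X_of_ne (Ne.symm h), Pi.single_eq_of_ne h]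
  have hWeq : W = LinearMap.ker Φ₀ := le_antisymm hΦW fun v hv => by
    rw [← Submodule.Quotient.mk_eq_zero W, ← hΨΦ, show Φ₀ v = 0 from hv, map_zero]
  have hΦsurj : Function.Surjective Φ₀ := by
    rw [← LinearMap.range_eq_top]
    refine top_le_iff.1 fun t _ => ?_
    induction t using TensorProduct.induction_on with
    | zero => exact zero_mem _
    | add x y hx hy => exact add_mem (hx trivial) (hy trivial)
    | tmul l ω =>
      rw [show l ⊗ₜ[A] ω = l • ((1 : Λ) ⊗ₜ[A] ω) by rw [TensorProduct.smul_tmul', smul_eq_mul, mul_one]]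
      refine Submodule.smul_mem _ _ ?_
      induction (show ω ∈ Submodule.span A (Set.range (KaehlerDifferential.D R A)) from
        KaehlerDifferential.span_range_derivation R A ▸ Submodule.mem_top) using Submodule.span_induction with
      | mem w hw => obtain ⟨y, rfl⟩ := hw; exact ⟨grad a (lift y), by rw [hchain, hlift]⟩
      | zero => rw [TensorProduct.tmul_zero]; exact zero_mem _
      | add u v _ _ hu hv => rw [TensorProduct.tmul_add]; exact add_mem (hu trivial) (hv trivial)
      | smul c w _ hw =>
        rw [TensorProduct.tmul_smul, ← algebraMap_smul Λ c]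
        exact Submodule.smul_mem _ _ (hw trivial)
  obtain ⟨sec, hsec⟩ := Module.projective_lifting_property Φ₀ LinearMap.id hΦsurj
  let π : (Fin n → Λ) →ₗ[Λ] W := LinearMap.codRestrict W (LinearMap.id - sec ∘ₗ Φ₀) fun v => by
    rw [hWeq, LinearMap.mem_ker]
    show Φ₀ (v - sec (Φ₀ v)) = 0
    rw [map_sub, show Φ₀ (sec (Φ₀ v)) = Φ₀ v from LinearMap.congr_fun hsec _, sub_self]
  have hπW : ∀ w : W, π w = w := fun w => by
    refine Subtype.ext ?_
    show (w : Fin n → Λ) - sec (Φ₀ w) = w
    rw [show Φ₀ (w : Fin n → Λ) = 0 from hWeq.le w.2, map_zero, sub_zero]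
  obtain ⟨c, b⟩ := Submodule.basisOfPid (Pi.basisFun Λ (Fin n)) W
  have hb : ∀ j, ∃ L : Fin m → Λ, ∑ k, L k • grad a (f k) = (b j : Fin n → Λ) := fun j =>
    (Submodule.mem_span_range_iff_exists_fun Λ).1 (b j).2
  choose L hL using hb
  let row : Fin m → W := fun k => ⟨grad a (f k), Submodule.subset_span ⟨k, rfl⟩⟩
  let M : Matrix (Fin m) (Fin c) Λ := Matrix.of fun k j => b.repr (row k) j
  have hLM : Matrix.of L * M = 1 := by
    refine Matrix.ext fun j l => ?_
    have h1 : b j = ∑ k, L j k • row k := Subtype.ext (by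
      rw [← hL j]; simp [row])
    have h2 := congrArg (fun w => b.repr w l) h1
    simp only [Module.Basis.repr_self, map_sum, map_smul, Finsupp.finsetSum_apply, Finsupp.smul_apply,
      smul_eq_mul] at h2
    rw [Matrix.mul_apply, Matrix.one_apply]
    simp only [Matrix.of_apply, M]
    rw [← h2, Finsupp.single_apply]
  have hrows := Minors.span_minors_eq_top M.transpose (Matrix.of L).transpose
    (by rw [← Matrix.transpose_mul, hLM, Matrix.transpose_one])
  obtain ⟨s, hs⟩ : ∃ s : Fin c → Fin m, IsUnit (M.transpose.submatrix id s).det := by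
    by_contra! hc
    exact (maximalIdeal.isMaximal Λ).ne_top (top_le_iff.1 (hrows ▸ Ideal.span_le.2 (by
      rintro _ ⟨s, rfl⟩; exact (mem_maximalIdeal _).2 (hc s))))
  let Ms : Matrix (Fin c) (Fin c) Λ := M.submatrix s id
  have hMs : IsUnit Ms.det := by
    rw [← Matrix.det_transpose]
    exact hs
  let J : Matrix (Fin c) (Fin n) Λ := Matrix.of fun j i => grad a (f (s j)) i
  let Rm : Matrix (Fin n) (Fin c) Λ := Matrix.of fun i l => b.repr (π (Pi.single i 1)) l
  have hJR : J * Rm = Ms := by
    refine Matrix.ext fun j l => ?_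
    have h1 : row (s j) = ∑ i, grad a (f (s j)) i • π (Pi.single i 1) := by
      simp_rw [← map_smul, ← map_sum]
      rw [← pi_eq_sum_univ' (grad a (f (s j)))]
      exact (hπW (row (s j))).symm
    simp only [Matrix.mul_apply, J, Rm, Ms, M, Matrix.submatrix_apply, Matrix.of_apply, id]
    rw [h1, map_sum, Finsupp.finsetSum_apply]
    simp
  have hcols := Minors.span_minors_eq_top J (Rm * Ms⁻¹)
    (by rw [← Matrix.mul_assoc, hJR, Matrix.mul_nonsing_inv _ hMs])
  obtain ⟨cols, hcolsu⟩ : ∃ cols : Fin c → Fin n, IsUnit (J.submatrix id cols).det := by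
    by_contra! hc
    exact (maximalIdeal.isMaximal Λ).ne_top (top_le_iff.1 (hcols ▸ Ideal.span_le.2 (by
      rintro _ ⟨cs, rfl⟩; exact (mem_maximalIdeal _).2 (hc cs))))
  refine ⟨c, s, cols, fun hmem => ?_, fun k => ?_⟩
  · refine (mem_maximalIdeal _).1 hmem ?_
    convert hcolsu using 1
    rw [AlgHom.map_det, RingHom.map_det]
    congr 1
    refine Matrix.ext fun j l => ?_
    exact (hev _).symm
  · refine ⟨fun j => (Matrix.vecMul (fun l => M k l) Ms⁻¹) j, ?_⟩
    have h1 : ∀ l, b.repr (∑ j, (Matrix.vecMul (fun l => M k l) Ms⁻¹) j • row (s j)) l = M k l := by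
      intro l
      rw [map_sum, Finsupp.finsetSum_apply]
      simp only [map_smul, Finsupp.smul_apply, smul_eq_mul]
      show Matrix.vecMul (Matrix.vecMul (fun l => M k l) Ms⁻¹) Ms l = M k l
      rw [Matrix.vecMul_vecMul, Matrix.nonsing_inv_mul _ hMs, Matrix.vecMul_one]
    have h2 : row k = ∑ j, (Matrix.vecMul (fun l => M k l) Ms⁻¹) j • row (s j) :=
      b.repr.injective (Finsupp.ext fun l => (h1 l).symm)
    have h3 := congrArg Subtype.val h2
    simp only [AddSubmonoidClass.coe_finsetSum, SetLike.val_smul, row] at h3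
    exact h3

/-- Smoothness at the special point. -/
theorem isSmoothAt_special {R Λ A : Type u} [CommRing R] [IsDomain R] [IsPrincipalIdealRing R]
    [IsRegularRing R] [CommRing Λ] [IsDomain Λ] [IsPrincipalIdealRing Λ] [IsLocalRing Λ] [Algebra R Λ]
    [CommRing A] [Algebra R A] [Algebra.FiniteType R A] [Algebra A Λ] [IsScalarTower R A Λ]
    [(RingHom.ker (algebraMap A Λ)).IsPrime]
    (hq : Algebra.IsSmoothAt R (RingHom.ker (algebraMap A Λ)))
    (hfree : Module.Free Λ (Λ ⊗[A] Ω[A⁄R])) :
    Algebra.IsSmoothAt R ((maximalIdeal Λ).comap (algebraMap A Λ)) := by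
  classical
  obtain ⟨n, φ, hφ⟩ := Algebra.FiniteType.iff_quotient_mvPolynomial''.1 ‹Algebra.FiniteType R A›
  obtain ⟨m, f, hf⟩ := Submodule.fg_iff_exists_fin_generating_family.1
    (IsNoetherian.noetherian (RingHom.ker φ.toRingHom))
  have hker : RingHom.ker φ.toRingHom = Ideal.span (Set.range f) := hf.symm
  have : Algebra.FinitePresentation R A := Algebra.FinitePresentation.of_surjective hφ
    (IsNoetherian.noetherian _)
  obtain ⟨c, s, cols, hΔ, hT⟩ := exists_minor φ hφ f hker hfree
  set f' : Fin c → MvPolynomial (Fin n) R := fun j => f (s j) with hf'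
  let Jm : Matrix (Fin c) (Fin c) (MvPolynomial (Fin n) R) := Matrix.of fun j l => pderiv (cols l) (f' j)
  let Δ := Jm.det
  let q : Ideal A := RingHom.ker (algebraMap A Λ)
  let q' : Ideal (MvPolynomial (Fin n) R) := q.comap φ
  have hev : ∀ z, aeval (fun i => algebraMap A Λ (φ (X i))) z = algebraMap A Λ (φ z) := fun z => by
    suffices aeval (fun i => algebraMap A Λ (φ (X i))) = (IsScalarTower.toAlgHom R A Λ).comp φ from
      DFunLike.congr_fun this z
    exact MvPolynomial.algHom_ext fun i => by simp
  let _ : Algebra (R ⧸ (⊥ : Ideal R)) A := Algebra.compHom A (RingEquiv.quotientBot R).toRingHom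
  have : IsScalarTower R (R ⧸ (⊥ : Ideal R)) A := IsScalarTower.of_algebraMap_eq fun r => rfl
  have : Algebra.FinitePresentation (R ⧸ (⊥ : Ideal R)) A :=
    Algebra.FinitePresentation.of_restrict_scalars_finitePresentation R (R ⧸ (⊥ : Ideal R)) A
  have hbij : Function.Bijective (algebraMap R (R ⧸ (⊥ : Ideal R))) :=
    ⟨fun x y h => by simpa using congrArg (RingEquiv.quotientBot R) h, Ideal.Quotient.mk_surjective⟩
  have : Algebra.IsSmoothAt (R ⧸ (⊥ : Ideal R)) q := by
    have := SingularComp.formallyUnramified_of_surjective (R := R) (R' := R ⧸ (⊥ : Ideal R)) hbij.2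
    have : Algebra.FormallySmooth R (Localization.AtPrime q) := hq
    exact Algebra.FormallySmooth.of_restrictScalars R (R ⧸ (⊥ : Ideal R)) (Localization.AtPrime q)
  obtain ⟨H, hH, Wd, hWd, hHW⟩ := LocalJacobian.exists_derivation_identity (⊥ : Ideal R) f φ hφ hker q
  have hΔ' : Δ ∉ q' := fun h => hΔ (by
    show algebraMap A Λ (φ Δ) ∈ maximalIdeal Λ
    rw [show algebraMap A Λ (φ Δ) = 0 from h]
    exact zero_mem _)
  have hJq : Ideal.span (Set.range f) ≤ q' := fun z hz => by
    show φ z ∈ q
    rw [show φ z = 0 from hker.ge hz]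
    exact q.zero_mem
  let Tk : Fin m → Fin c → MvPolynomial (Fin n) R := fun k =>
    Matrix.vecMul (fun l => pderiv (cols l) (f k)) Jm.adjugate
  have hdiff : ∀ k i, Δ * pderiv i (f k) - ∑ j, Tk k j * pderiv i (f' j) ∈ q' := by
    intro k i
    obtain ⟨T, hT⟩ := hT k
    show algebraMap A Λ (φ _) = 0
    let θ : MvPolynomial (Fin n) R →+* Λ := (algebraMap A Λ).comp φ.toRingHom
    show θ _ = 0
    have hθ : ∀ (z : MvPolynomial (Fin n) R) (i : Fin n),
        θ (pderiv i z) = grad (fun i => algebraMap A Λ (φ (X i))) z i := fun z i => (hev _).symm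
    have h1 : ∀ i, θ (pderiv i (f k)) = ∑ j, T j * θ (pderiv i (f' j)) := fun i => by
      simp only [hθ, hf']
      rw [congrFun hT i]
      simp [Finset.sum_apply]
    have h2 : ∀ j, θ (Tk k j) = θ Δ * T j := by
      intro j
      have h3 : (fun l => θ (pderiv (cols l) (f k))) = Matrix.vecMul T (Jm.map θ) := by
        funext l
        rw [h1]
        simp [Matrix.vecMul, dotProduct, Jm]
      show θ (Matrix.vecMul (fun l => pderiv (cols l) (f k)) Jm.adjugate j) = _
      rw [RingHom.map_vecMul, show Jm.adjugate.map θ = (Jm.map θ).adjugate from θ.map_adjugate Jm]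
      rw [show θ ∘ (fun l => pderiv (cols l) (f k)) = Matrix.vecMul T (Jm.map θ) from h3,
        Matrix.vecMul_vecMul, Matrix.mul_adjugate, Matrix.vecMul_smul, Matrix.vecMul_one, Pi.smul_apply,
        smul_eq_mul, ← show θ Δ = (Jm.map θ).det from θ.map_det Jm]
    simp only [map_sub, map_mul, map_sum, h1 i, h2, Finset.mul_sum, mul_assoc, sub_self]
  obtain ⟨u, hu, huf⟩ := LocalJacobian.exists_mul_mem f (Ideal.span (Set.range f')) q' (Δ * H)
    (fun h => (Ideal.IsPrime.mem_or_mem (inferInstance : q'.IsPrime) h).elim hΔ' hH) (fun k => by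
      let rest := fun k => H * f k - ∑ i, pderiv i (f k) * Wd i
      have hrest : ∀ k, rest k ∈ Ideal.span (Set.range f') ⊔ q' * Ideal.span (Set.range f) := fun k => by
        have h0 := hHW k
        rw [Ideal.map_bot, sup_bot_eq, pow_two] at h0
        exact Ideal.mem_sup_right (Ideal.mul_mono_left hJq h0)
      have hkey : Δ * H * f k = ∑ j, Tk k j * H * f' j +
          ∑ i, (Δ * pderiv i (f k) - ∑ j, Tk k j * pderiv i (f' j)) * Wd i +
          (Δ * rest k - ∑ j, Tk k j * rest (s j)) := by
        have h1 : ∑ j, Tk k j * ∑ i, pderiv i (f' j) * Wd i =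
            ∑ i, (∑ j, Tk k j * pderiv i (f' j)) * Wd i := by
          simp only [Finset.sum_mul, Finset.mul_sum]
          rw [Finset.sum_comm]
          exact Finset.sum_congr rfl fun i _ => Finset.sum_congr rfl fun j _ => by ring
        have h2 : Δ * ∑ i, pderiv i (f k) * Wd i = ∑ i, Δ * pderiv i (f k) * Wd i := by
          rw [Finset.mul_sum]
          exact Finset.sum_congr rfl fun i _ => by ring
        have h3 : ∑ j, Tk k j * (H * f' j) = ∑ j, Tk k j * H * f' j :=
          Finset.sum_congr rfl fun j _ => by ring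
        simp only [rest, mul_sub, sub_mul, Finset.sum_sub_distrib]
        rw [h1, h2, h3]
        ring
      rw [hkey]
      refine Ideal.add_mem _ (Ideal.add_mem _ ?_ ?_) (Ideal.sub_mem _ (Ideal.mul_mem_left _ _ (hrest k))
        (Ideal.sum_mem _ fun j _ => Ideal.mul_mem_left _ _ (hrest _)))
      · exact Ideal.sum_mem _ fun j _ => Ideal.mem_sup_left
          (Ideal.mul_mem_left _ _ (Ideal.subset_span ⟨j, rfl⟩))
      · exact Ideal.sum_mem _ fun i _ => Ideal.mem_sup_right (Ideal.mul_mem_mul (hdiff k i) (hWd i)))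
  -- the local ring cut out by the chosen relations is a domain
  let B := MvPolynomial (Fin n) R ⧸ Ideal.span (Set.range f')
  have hle : Ideal.span (Set.range f') ≤ RingHom.ker φ.toRingHom := by
    rw [hker]
    exact Ideal.span_le.2 (by rintro _ ⟨j, rfl⟩; exact Ideal.subset_span ⟨s j, rfl⟩)
  let ψ : B →ₐ[R] A := Ideal.Quotient.liftₐ _ φ fun z hz => hle hz
  let P : Ideal B := ((maximalIdeal Λ).comap (algebraMap A Λ)).comap ψ
  have : Algebra.FinitePresentation R B :=
    Algebra.FinitePresentation.quotient (Submodule.fg_span (Set.finite_range f'))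
  have : Algebra.IsSmoothAt R P := isSmoothAt_of_leading (Ideal.Quotient.mkₐ R _)
    Ideal.Quotient.mk_surjective f' (Ideal.mk_ker) f'
    (fun l => Ideal.Quotient.eq_zero_iff_mem.2 (Ideal.subset_span ⟨l, rfl⟩)) cols 1
    (fun k => by rw [one_mul]; exact Ideal.subset_span ⟨k, rfl⟩) P (by rw [one_mul]; exact hΔ)
  have := isRegularLocalRing_of_isSmoothAt (R := R) P
  have := Groth.Agent.Lib.Regular.Quotient.isDomain (Localization.AtPrime P)
  let ιP := algebraMap B (Localization.AtPrime P)
  have hu0 : ιP (Ideal.Quotient.mk _ u) ≠ 0 := by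
    intro h
    obtain ⟨⟨t, ht⟩, htu⟩ := (IsLocalization.map_eq_zero_iff P.primeCompl _ _).1 h
    obtain ⟨t, rfl⟩ := Ideal.Quotient.mk_surjective t
    rw [← map_mul, Ideal.Quotient.eq_zero_iff_mem] at htu
    have h1 : t * u ∈ q' := hJq (hker.le (hle htu))
    rcases Ideal.IsPrime.mem_or_mem (inferInstance : q'.IsPrime) h1 with h2 | h2
    · refine ht ?_
      show algebraMap A Λ (φ t) ∈ maximalIdeal Λ
      rw [show algebraMap A Λ (φ t) = 0 from h2]
      exact zero_mem _
    · exact hu h2
  have hfk : ∀ k, ∃ h, h ∉ P.comap (Ideal.Quotient.mk _) ∧ h * f k ∈ Ideal.span (Set.range f') := by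
    intro k
    have h1 : ιP (Ideal.Quotient.mk _ u) * ιP (Ideal.Quotient.mk _ (f k)) = 0 := by
      rw [← map_mul, ← map_mul, Ideal.Quotient.eq_zero_iff_mem.2 (huf k), map_zero]
    obtain ⟨⟨t, ht⟩, htu⟩ := (IsLocalization.map_eq_zero_iff P.primeCompl (Localization.AtPrime P) _).1
      ((mul_eq_zero.1 h1).resolve_left hu0)
    obtain ⟨t, rfl⟩ := Ideal.Quotient.mk_surjective t
    exact ⟨t, ht, Ideal.Quotient.eq_zero_iff_mem.1 (by rw [map_mul]; exact htu)⟩
  choose hk hkP hkf using hfk
  refine isSmoothAt_of_leading φ hφ f hker f' (fun j => hker.ge (Ideal.subset_span ⟨s j, rfl⟩)) cols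
    (∏ k, hk k) (fun k => ?_) _ (fun h => ?_)
  · rw [← Finset.mul_prod_erase Finset.univ hk (Finset.mem_univ k), mul_comm (hk k), mul_assoc]
    exact Ideal.mul_mem_left _ _ (hkf k)
  · rw [map_mul, map_prod] at h
    rcases Ideal.IsPrime.mem_or_mem inferInstance h with h' | h'
    · obtain ⟨k, -, hk'⟩ := Ideal.IsPrime.prod_mem_iff.1 h'
      exact hkP k hk'
    · exact hΔ h'

end Groth.Agent.Lib.Smoothing.Neron.Basic
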