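import Groth.Agent.Lib.Smoothing.Neron.Basic
import Groth.Agent.Lib.JacCrit.FieldGeom
import Groth.Prelude.Def_BlowUp2
import Mathlib.RingTheory.Flat.Basic

/-!
# Néron's blowup
-/

universe u

open MvPolynomial IsLocalRing

namespace Groth.Agent.Lib.Smoothing.Neron.Blowup

/-- Relations whose differentials span those of all the others generate locally modulo `I`. -/
theorem exists_mul_mem_of_rows {R C : Type u} [CommRing R] [CommRing C] [Algebra R C] {n m c : ℕ}
    (I : Ideal R) [Algebra (R ⧸ I) C] [IsScalarTower R (R ⧸ I) C]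
    [Algebra.FinitePresentation (R ⧸ I) C] (f : Fin m → MvPolynomial (Fin n) R)
    (φ : MvPolynomial (Fin n) R →ₐ[R] C) (hφ : Function.Surjective φ)
    (hker : RingHom.ker φ.toRingHom = Ideal.span (Set.range f))
    (q : Ideal C) [q.IsPrime] [Algebra.IsSmoothAt (R ⧸ I) q] (s : Fin c → Fin m)
    (hrows : ∀ j, (fun i => algebraMap _ (q.comap φ).ResidueField (pderiv i (f j))) ∈
      Submodule.span (q.comap φ).ResidueField
        (Set.range fun k i => algebraMap _ (q.comap φ).ResidueField (pderiv i (f (s k))))) :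
    ∃ u, φ u ∉ q ∧ ∀ j, u * f j ∈ Ideal.span (Set.range fun k => f (s k)) ⊔ I.map MvPolynomial.C := by
  classical
  obtain ⟨H, hH, W, hW, hHW⟩ := LocalJacobian.exists_derivation_identity I f φ hφ hker q
  let q' : Ideal (MvPolynomial (Fin n) R) := q.comap φ
  let K := q'.ResidueField
  let e := algebraMap (MvPolynomial (Fin n) R) K
  have he : ∀ p, e p = 0 ↔ p ∈ q' := fun p => Ideal.algebraMap_residueField_eq_zero
  have hT : ∀ j, ∃ T : Fin c → K, ∑ k, T k • (fun i => e (pderiv i (f (s k)))) =
      fun i => e (pderiv i (f j)) := fun j => (Submodule.mem_span_range_iff_exists_fun _).1 (hrows j)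
  choose T hT using hT
  obtain ⟨⟨b, hb⟩, hbT⟩ := IsLocalization.exist_integer_multiples_of_finite
    (nonZeroDivisors ((MvPolynomial (Fin n) R) ⧸ q')) fun x : Fin m × Fin c => T x.1 x.2
  choose t ht using hbT
  obtain ⟨E, rfl⟩ := Ideal.Quotient.mk_surjective b
  choose T' hT' using fun x => Ideal.Quotient.mk_surjective (t x)
  have hE : E ∉ q' := fun h =>
    nonZeroDivisors.ne_zero hb (Ideal.Quotient.eq_zero_iff_mem.2 h)
  have heT : ∀ j k, e (T' (j, k)) = e E * T j k := fun j k => by
    have h1 := ht (j, k)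
    rw [← hT' (j, k), Algebra.smul_def] at h1
    exact h1
  set N := Ideal.span (Set.range fun k => f (s k)) ⊔
    I.map (MvPolynomial.C : R →+* (MvPolynomial (Fin n) R))
  have hJq : Ideal.span (Set.range f) ≤ q' := fun p hp => by
    show φ p ∈ q
    rw [show φ p = 0 from hker.ge hp]
    exact q.zero_mem
  obtain ⟨u, hu, huf⟩ := LocalJacobian.exists_mul_mem f N q' (E * H)
    (fun h => (Ideal.IsPrime.mem_or_mem inferInstance h).elim hE hH) (fun j => by
      let rest := fun j => H * f j - ∑ i, pderiv i (f j) * W i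
      have hrest : ∀ j, rest j ∈ N ⊔ q' * Ideal.span (Set.range f) := fun j => by
        refine SetLike.le_def.1 ?_ (hHW j)
        rw [pow_two]
        exact sup_le ((Ideal.mul_mono_left hJq).trans le_sup_right)
          ((le_sup_right (a := Ideal.span (Set.range fun k => f (s k)))).trans le_sup_left)
      have hkey : E * H * f j = ∑ k, T' (j, k) * H * f (s k) +
          ∑ i, (E * pderiv i (f j) - ∑ k, T' (j, k) * pderiv i (f (s k))) * W i +
          (E * rest j - ∑ k, T' (j, k) * rest (s k)) := by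
        have h1 : ∑ k, T' (j, k) * ∑ i, pderiv i (f (s k)) * W i =
            ∑ i, (∑ k, T' (j, k) * pderiv i (f (s k))) * W i := by
          simp only [Finset.sum_mul, Finset.mul_sum]
          rw [Finset.sum_comm]
          exact Finset.sum_congr rfl fun i _ => Finset.sum_congr rfl fun k _ => by ring
        have h2 : E * ∑ i, pderiv i (f j) * W i = ∑ i, E * pderiv i (f j) * W i := by
          rw [Finset.mul_sum]
          exact Finset.sum_congr rfl fun i _ => by ring
        have h3 : ∑ k, T' (j, k) * (H * f (s k)) = ∑ k, T' (j, k) * H * f (s k) :=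
          Finset.sum_congr rfl fun k _ => by ring
        simp only [rest, mul_sub, sub_mul, Finset.sum_sub_distrib]
        rw [h1, h2, h3]
        ring
      rw [hkey]
      refine Ideal.add_mem _ (Ideal.add_mem _ ?_ ?_) (Ideal.sub_mem _ (Ideal.mul_mem_left _ _ (hrest j))
        (Ideal.sum_mem _ fun k _ => Ideal.mul_mem_left _ _ (hrest _)))
      · exact Ideal.sum_mem _ fun k _ => Ideal.mem_sup_left (Ideal.mem_sup_left
          (Ideal.mul_mem_left _ _ (Ideal.subset_span ⟨k, rfl⟩)))
      · refine Ideal.sum_mem _ fun i _ => Ideal.mem_sup_right (Ideal.mul_mem_mul ?_ (hW i))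
        rw [← he, map_sub, map_mul, map_sum]
        simp only [map_mul, heT]
        rw [show e (pderiv i (f j)) = ∑ k, T j k * e (pderiv i (f (s k))) by
          have := congrFun (hT j) i
          simp only [Finset.sum_apply, Pi.smul_apply, smul_eq_mul] at this
          exact this.symm, Finset.mul_sum, sub_eq_zero]
        refine Finset.sum_congr rfl fun k _ => ?_
        rw [mul_assoc])
  exact ⟨u, hu, huf⟩

/-- Linearly independent rows have a nonzero minor. -/
theorem exists_cols {K : Type u} [Field K] {n c : ℕ} (v : Fin c → Fin n → K)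
    (hli : LinearIndependent K v) :
    ∃ cols : Fin c → Fin n, (Matrix.of fun k l => v k (cols l)).det ≠ 0 := by
  classical
  obtain ⟨g, hg⟩ := (Fintype.linearCombination K v).exists_leftInverse_of_injective
    (LinearMap.ker_eq_bot.2 hli.fintypeLinearCombination_injective)
  let L : Matrix (Fin n) (Fin c) K := Matrix.of fun i l => g (Pi.single i 1) l
  have hL : Matrix.of v * L = 1 := by
    ext k l
    have h1 : g (v k) = Pi.single k 1 := by
      have h2 := LinearMap.congr_fun hg (Pi.single k 1)
      simpa [Fintype.linearCombination_apply, Pi.single_apply, ite_smul] using h2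
    have h2 : g (v k) = ∑ i, v k i • g (Pi.single i 1) := by
      conv_lhs => rw [pi_eq_sum_univ' (v k)]
      simp
    rw [Matrix.one_apply, Matrix.mul_apply]
    have h3 := congrFun (h2.symm.trans h1) l
    simp only [Finset.sum_apply, Pi.smul_apply, smul_eq_mul, Pi.single_apply] at h3
    simpa [L, eq_comm] using h3
  have hmin := Minors.span_minors_eq_top _ L hL
  by_contra! hc
  refine bot_ne_top (α := Ideal K) ?_
  rw [← hmin, eq_comm, Ideal.span_eq_bot]
  rintro _ ⟨cols, rfl⟩
  exact hc cols

/-- A domain of finite type with geometrically reduced generic point is smooth there. -/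
theorem isSmoothAt_bot {κ k B : Type u} [Field κ] [Field k] [Algebra κ k]
    [Algebra.IsGeometricallyReduced κ k] [CommRing B] [IsDomain B] [Algebra κ B]
    [Algebra.FiniteType κ B] (g : B →ₐ[κ] k) (hg : Function.Injective g) :
    Algebra.IsSmoothAt κ (⊥ : Ideal B) := by
  have hunit : ∀ y : nonZeroDivisors B, IsUnit (g y) := fun y => by
    rw [isUnit_iff_ne_zero, ne_eq, map_eq_zero_iff g hg]
    exact nonZeroDivisors.ne_zero y.2
  let G : FractionRing B →ₐ[κ] k := IsLocalization.liftAlgHom (S := FractionRing B) hunit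
  have : Algebra.IsGeometricallyReduced κ (FractionRing B) :=
    Algebra.IsGeometricallyReduced.of_injective G G.toRingHom.injective
  have : Algebra.EssFiniteType B (FractionRing B) := .of_isLocalization _ (nonZeroDivisors B)
  have : Algebra.EssFiniteType κ (FractionRing B) := .comp κ B _
  have := JacCrit.FieldGeom.formallySmooth κ (FractionRing B)
  have heq : (⊥ : Ideal B).primeCompl = nonZeroDivisors B := by
    ext x
    exact ⟨fun h => mem_nonZeroDivisors_of_ne_zero h, fun h => nonZeroDivisors.ne_zero h⟩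
  have : IsLocalization (⊥ : Ideal B).primeCompl (FractionRing B) := by rw [heq]; infer_instance
  exact Algebra.FormallySmooth.of_equiv ((IsLocalization.algEquiv (⊥ : Ideal B).primeCompl
    (FractionRing B) (Localization.AtPrime (⊥ : Ideal B))).restrictScalars κ)

/-- The centre of the blowup is cut out by `π` and part of a system of coordinates. -/
theorem exists_centre {R A : Type u} [CommRing R] [IsNoetherianRing R] [IsLocalRing R] [CommRing A]
    [Algebra R A] (π : R) (hπ : maximalIdeal R = Ideal.span {π})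
    {n m : ℕ} (φ : MvPolynomial (Fin n) R →ₐ[R] A) (hφ : Function.Surjective φ)
    (f : Fin m → MvPolynomial (Fin n) R) (hker : RingHom.ker φ.toRingHom = Ideal.span (Set.range f))
    (p : Ideal A) [p.IsPrime] [Algebra.IsSmoothAt R p]
    [Algebra (R ⧸ maximalIdeal R) (A ⧸ p)] [IsScalarTower R (R ⧸ maximalIdeal R) (A ⧸ p)]
    [Algebra.IsSmoothAt (R ⧸ maximalIdeal R) (⊥ : Ideal (A ⧸ p))] :
    ∃ (c r e : ℕ) (f' : Fin c → MvPolynomial (Fin n) R) (g : Fin r → MvPolynomial (Fin n) R)
      (Y : Fin e → MvPolynomial (Fin n) R) (h u : MvPolynomial (Fin n) R)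
      (cols : Fin (c + r) → Fin n) (t : Fin e → Fin (c + r) → MvPolynomial (Fin n) R)
      (α : Fin e → MvPolynomial (Fin n) R),
      (∀ l, φ (f' l) = 0) ∧ (∀ i, φ (g i) ∈ p) ∧ Ideal.span (Set.range Y) = p.comap φ ∧
      φ h ∉ p ∧ φ u ∉ p ∧ (∀ k, h * f k ∈ Ideal.span (Set.range f')) ∧
      φ (Matrix.of fun k l => pderiv (cols l) (Fin.append f' g k)).det ∉ p ∧
      ∀ j, u * Y j = ∑ k, t j k * Fin.append f' g k + α j * MvPolynomial.C π := by
  classical
  have : Algebra.FinitePresentation R A := Algebra.FinitePresentation.of_surjective hφ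
    (IsNoetherian.noetherian _)
  let _ : Algebra (R ⧸ (⊥ : Ideal R)) A := Algebra.compHom A (RingEquiv.quotientBot R).toRingHom
  have : IsScalarTower R (R ⧸ (⊥ : Ideal R)) A := IsScalarTower.of_algebraMap_eq fun r => rfl
  have : Algebra.FinitePresentation (R ⧸ (⊥ : Ideal R)) A :=
    Algebra.FinitePresentation.of_restrict_scalars_finitePresentation R (R ⧸ (⊥ : Ideal R)) A
  have : Algebra.IsSmoothAt (R ⧸ (⊥ : Ideal R)) p := by
    have := SingularComp.formallyUnramified_of_surjective (R := R) (R' := R ⧸ (⊥ : Ideal R))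
      Ideal.Quotient.mk_surjective
    have : Algebra.FormallySmooth R (Localization.AtPrime p) := ‹Algebra.IsSmoothAt R p›
    exact Algebra.FormallySmooth.of_restrictScalars R (R ⧸ (⊥ : Ideal R)) (Localization.AtPrime p)
  obtain ⟨c, s, cols₀, h, hh, hdvd, hhf⟩ :=
    LocalJacobian.exists_good_minor (⊥ : Ideal R) f φ hφ hker p
  simp only [Ideal.map_bot, sup_bot_eq] at hhf
  let p' : Ideal (MvPolynomial (Fin n) R) := p.comap φ
  let f' : Fin c → MvPolynomial (Fin n) R := fun k => f (s k)
  have hf' : ∀ l, φ (f' l) = 0 := fun l => hker.ge (Ideal.subset_span ⟨s l, rfl⟩)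
  obtain ⟨e, Y, hY⟩ := Submodule.fg_iff_exists_fin_generating_family.1 (IsNoetherian.noetherian p')
  let φb : MvPolynomial (Fin n) R →ₐ[R] A ⧸ p := (Ideal.Quotient.mkₐ R p).comp φ
  have hφb : Function.Surjective φb := Ideal.Quotient.mk_surjective.comp hφ
  have hkerb : RingHom.ker φb.toRingHom = p' := by
    ext z
    exact Ideal.Quotient.eq_zero_iff_mem
  let q'' : Ideal (MvPolynomial (Fin n) R) := (⊥ : Ideal (A ⧸ p)).comap φb
  have hq'' : ∀ z, z ∈ q'' ↔ z ∈ p' := fun z => Ideal.Quotient.eq_zero_iff_mem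
  let K := q''.ResidueField
  let ev := algebraMap (MvPolynomial (Fin n) R) K
  let rw0 : MvPolynomial (Fin n) R → Fin n → K := fun z i => ev (pderiv i z)
  have hΔ₀ : ev (_root_.Smoothing.jacobianMinor f s cols₀) ≠ 0 := fun h0 => by
    obtain ⟨w, hw⟩ := hdvd
    refine hh ?_
    rw [hw, map_mul]
    exact p.mul_mem_right _ ((hq'' _).1 (Ideal.algebraMap_residueField_eq_zero.1 h0))
  have hli₁ : LinearIndependent K fun k => rw0 (f' k) := by
    refine LinearIndependent.of_comp
      (LinearMap.funLeft K K cols₀ : (Fin n → K) →ₗ[K] (Fin c → K)) ?_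
    refine Matrix.linearIndependent_rows_of_det_ne_zero
      (A := Matrix.of fun k l => ev (pderiv (cols₀ l) (f' k))) ?_
    rw [show (Matrix.of fun k l => ev (pderiv (cols₀ l) (f' k))).det =
      ev (_root_.Smoothing.jacobianMinor f s cols₀) by
      rw [_root_.Smoothing.jacobianMinor, RingHom.map_det]; rfl]
    exact hΔ₀
  let W : Submodule K (Fin n → K) := Submodule.span K (Set.range fun k => rw0 (f' k))
  obtain ⟨ι, a, hainj, haspan, hali⟩ := exists_linearIndependent' K fun j => W.mkQ (rw0 (Y j))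
  have : Fintype ι := Fintype.ofInjective a hainj
  let r := Fintype.card ι
  let ε := Fintype.equivFin ι
  let g : Fin r → MvPolynomial (Fin n) R := fun i => Y (a (ε.symm i))
  let G : Fin (c + r) → MvPolynomial (Fin n) R := Fin.append f' g
  have hgli : LinearIndependent K (W.mkQ ∘ fun i => rw0 (g i)) := hali.comp _ ε.symm.injective
  have hsum : LinearIndependent K (Sum.elim (fun k => rw0 (f' k)) fun i => rw0 (g i)) := by
    have hf₀ : LinearIndependent K fun k => (⟨rw0 (f' k), Submodule.subset_span ⟨k, rfl⟩⟩ : W) :=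
      LinearIndependent.of_comp W.subtype hli₁
    exact hf₀.sumElim_of_quotient (fun i => rw0 (g i)) hgli
  have hGli : LinearIndependent K fun k => rw0 (G k) := by
    have := hsum.comp _ (finSumFinEquiv (m := c) (n := r)).symm.injective
    convert this using 1
    funext k
    refine Fin.addCases (fun k => ?_) (fun k => ?_) k
    · simp [G, Fin.append_left]
    · simp [G, Fin.append_right]
  obtain ⟨cols, hcols⟩ := exists_cols _ hGli
  -- a generating family of `p'` containing the chosen relations
  let Yf : Fin (c + e) → MvPolynomial (Fin n) R := Fin.append f' Y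
  have hYf : RingHom.ker φb.toRingHom = Ideal.span (Set.range Yf) := by
    rw [hkerb]
    refine le_antisymm (hY.ge.trans (Ideal.span_le.2 ?_)) (Ideal.span_le.2 ?_)
    · rintro _ ⟨j, rfl⟩
      exact Ideal.subset_span (show Y j ∈ Set.range Yf from ⟨Fin.natAdd c j, Fin.append_right f' Y j⟩)
    · rintro _ ⟨k, rfl⟩
      refine Fin.addCases (motive := fun k => Yf k ∈ p') (fun k => ?_) (fun k => ?_) k
      · show φ (Fin.append f' Y _) ∈ p
        rw [Fin.append_left, hf' k]
        exact p.zero_mem
      · show Fin.append f' Y _ ∈ p'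
        rw [Fin.append_right]
        exact hY.le (Submodule.subset_span ⟨k, rfl⟩)
  let S : Fin (c + r) → Fin (c + e) :=
    Fin.append (fun k => Fin.castAdd e k) (fun i => Fin.natAdd c (a (ε.symm i)))
  have hS : ∀ k, Yf (S k) = G k := fun k => by
    refine Fin.addCases (fun k => ?_) (fun k => ?_) k <;> simp [S, Yf, G, g]
  have hall : ∀ j, rw0 (Yf j) ∈ Submodule.span K (Set.range fun k => rw0 (G k)) := by
    have hW : W ≤ Submodule.span K (Set.range fun k => rw0 (G k)) := Submodule.span_le.2 (by
      rintro _ ⟨k, rfl⟩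
      exact Submodule.subset_span ⟨Fin.castAdd r k, by simp [G]⟩)
    intro j
    refine Fin.addCases (fun j => ?_) (fun j => ?_) j
    · rw [show Yf (Fin.castAdd e j) = f' j from Fin.append_left _ _ j]
      exact hW (Submodule.subset_span ⟨j, rfl⟩)
    · rw [show Yf (Fin.natAdd c j) = Y j from Fin.append_right _ _ j]
      have h1 : W.mkQ (rw0 (Y j)) ∈
          Submodule.map W.mkQ (Submodule.span K (Set.range fun i => rw0 (g i))) := by
        rw [Submodule.map_span, ← Set.range_comp]
        have h2 : Set.range (W.mkQ ∘ fun i => rw0 (g i)) =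
            Set.range ((fun j => W.mkQ (rw0 (Y j))) ∘ a) := by
          show Set.range (((fun j => W.mkQ (rw0 (Y j))) ∘ a) ∘ ε.symm) = _
          rw [EquivLike.range_comp]
        rw [h2, haspan]
        exact Submodule.subset_span ⟨j, rfl⟩
      obtain ⟨y, hy, hyj⟩ := Submodule.mem_map.1 h1
      have h3 : rw0 (Y j) - y ∈ W := (Submodule.Quotient.eq W).1 hyj.symm
      rw [← sub_add_cancel (rw0 (Y j)) y]
      refine Submodule.add_mem _ (hW h3) (Submodule.span_mono ?_ hy)
      rintro _ ⟨i, rfl⟩
      exact ⟨Fin.natAdd c i, by simp [G]⟩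
  have : Algebra.FiniteType R (A ⧸ p) := Algebra.FiniteType.of_surjective φb hφb
  have : Algebra.FiniteType (R ⧸ maximalIdeal R) (A ⧸ p) :=
    Algebra.FiniteType.of_restrictScalars_finiteType R (R ⧸ maximalIdeal R) (A ⧸ p)
  have : Algebra.FinitePresentation (R ⧸ maximalIdeal R) (A ⧸ p) :=
    Algebra.FinitePresentation.of_finiteType.1 this
  have := (Ideal.Quotient.isDomain_iff_prime p).2 ‹_›
  obtain ⟨u, hu, huY⟩ := exists_mul_mem_of_rows (maximalIdeal R) Yf φb hφb hYf ⊥ S (fun j => by
    simp only [hS]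
    exact hall j)
  have hmem : ∀ j, ∃ (t : Fin (c + r) → MvPolynomial (Fin n) R) (α : MvPolynomial (Fin n) R),
      u * Y j = ∑ k, t k * G k + α * MvPolynomial.C π := by
    intro j
    have h1 := huY (Fin.natAdd c j)
    rw [show Yf (Fin.natAdd c j) = Y j from Fin.append_right _ _ j, hπ, Ideal.map_span,
      Set.image_singleton] at h1
    simp only [hS] at h1
    obtain ⟨y, hy, z, hz, hyz⟩ := Submodule.mem_sup.1 h1
    obtain ⟨t, rfl⟩ := (Submodule.mem_span_range_iff_exists_fun _).1 hy
    obtain ⟨α, rfl⟩ := Ideal.mem_span_singleton'.1 hz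
    exact ⟨t, α, by rw [← hyz]; simp⟩
  choose t α htα using hmem
  refine ⟨c, r, e, f', g, Y, h, u, cols, t, α, hf',
    fun i => hY.le (Submodule.subset_span ⟨_, rfl⟩), hY, hh,
    fun hup => hu (Ideal.Quotient.eq_zero_iff_mem.2 hup), hhf, fun hdet => hcols ?_, htα⟩
  rw [show (Matrix.of fun k l => rw0 (G k) (cols l)).det =
    ev (Matrix.of fun k l => pderiv (cols l) (G k)).det by rw [RingHom.map_det]; rfl]
  exact Ideal.algebraMap_residueField_eq_zero.2 ((hq'' _).2 hdet)

/-- The explicit equations of the blowup are smooth. -/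
theorem isSmoothAt_affineAlgebra {R Λ A : Type u} [CommRing R] [IsRegularRing R]
    [CommRing Λ] [IsDomain Λ] [IsLocalRing Λ] [CommRing A] [Algebra R A] [Module.Flat R A]
    [Algebra A Λ]
    (p : Ideal A) (hp : p = (maximalIdeal Λ).comap (algebraMap A Λ)) (π : R) (hπ0 : IsSMulRegular R π) (hπΛ : algebraMap A Λ (algebraMap R A π) ≠ 0)
    {n m c r e : ℕ} (φ : MvPolynomial (Fin n) R →ₐ[R] A) (hφ : Function.Surjective φ)
    (f : Fin m → MvPolynomial (Fin n) R) (hker : RingHom.ker φ.toRingHom = Ideal.span (Set.range f))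
    (f' : Fin c → MvPolynomial (Fin n) R) (g : Fin r → MvPolynomial (Fin n) R)
    (Y : Fin e → MvPolynomial (Fin n) R) (h u : MvPolynomial (Fin n) R)
    (cols : Fin (c + r) → Fin n) (t : Fin e → Fin (c + r) → MvPolynomial (Fin n) R)
    (α : Fin e → MvPolynomial (Fin n) R)
    (hf' : ∀ l, φ (f' l) = 0) (hg : ∀ i, φ (g i) ∈ p)
    (hY : Ideal.span (Set.range Y) = p.comap φ)
    (hh : φ h ∉ p)
    (hu : φ u ∉ p)
    (hhf : ∀ k, h * f k ∈ Ideal.span (Set.range f'))
    (hdet : φ (Matrix.of fun k l => pderiv (cols l) (Fin.append f' g k)).det ∉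
      p)
    (htα : ∀ j, u * Y j = ∑ k, t j k * Fin.append f' g k + α j * MvPolynomial.C π)
    (φ' : BlowUp.affineAlgebra A p (algebraMap R A π) →ₐ[A] Λ) :
    Algebra.IsSmoothAt R ((maximalIdeal Λ).comap φ'.toRingHom) := by
  classical
  let Aπ := Localization.Away (algebraMap R A π)
  let A' := BlowUp.affineAlgebra A p (algebraMap R A π)
  let fr : ∀ x ∈ p, A' := fun x hx =>
    ⟨IsLocalization.mk' Aπ x ⟨algebraMap R A π, Submonoid.mem_powers _⟩,
      Algebra.subset_adjoin ⟨x, hx, rfl⟩⟩
  let πA' : A' := algebraMap A A' (algebraMap R A π)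
  have hfr : ∀ x (hx : x ∈ p), πA' * fr x hx = algebraMap A A' x := fun x hx => Subtype.ext (by
    show algebraMap A Aπ (algebraMap R A π) * IsLocalization.mk' Aπ x _ = algebraMap A Aπ x
    exact IsLocalization.mk'_spec' Aπ x (⟨_, Submonoid.mem_powers _⟩ : Submonoid.powers _))
  have hcancel : ∀ {y y' : A'}, πA' * y = πA' * y' → y = y' := fun {y y'} hyy => Subtype.ext
    ((IsLocalization.Away.algebraMap_isUnit (S := Aπ) (algebraMap R A π)).mul_left_cancel
      (congrArg Subtype.val hyy))
  have hregA : IsSMulRegular A (algebraMap R A π) := IsSMulRegular.of_flat hπ0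
  have hinjA : Function.Injective (algebraMap A A') := fun x y hxy => by
    have h1 : algebraMap A Aπ x = algebraMap A Aπ y := congrArg Subtype.val hxy
    obtain ⟨⟨_, k, rfl⟩, hk⟩ := (IsLocalization.eq_iff_exists (Submonoid.powers (algebraMap R A π)) Aπ).1 h1
    exact (hregA.pow k) hk
  have hgY : ∀ j, φ (Y j) ∈ p := fun j => hY.le (Ideal.subset_span ⟨j, rfl⟩)
  let emb : MvPolynomial (Fin n) R →ₐ[R] MvPolynomial (Fin (n + (r + e))) R :=
    rename (Fin.castAdd (r + e))
  let T' : Fin r → MvPolynomial (Fin (n + (r + e))) R := fun i => X (Fin.natAdd n (Fin.castAdd e i))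
  let T : Fin e → MvPolynomial (Fin (n + (r + e))) R := fun j => X (Fin.natAdd n (Fin.natAdd r j))
  let val : Fin (n + (r + e)) → A' := Fin.append (fun i => algebraMap A A' (φ (X i)))
    (Fin.append (fun i => fr (φ (g i)) (hg i)) (fun j => fr (φ (Y j)) (hgY j)))
  let Θ : MvPolynomial (Fin (n + (r + e))) R →ₐ[R] A' := aeval val
  have hΘemb : ∀ z, Θ (emb z) = algebraMap A A' (φ z) := fun z => by
    suffices Θ.comp emb = (IsScalarTower.toAlgHom R A A').comp φ from DFunLike.congr_fun this z
    exact MvPolynomial.algHom_ext fun i => by simp [Θ, emb, val]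
  have hΘT' : ∀ i, Θ (T' i) = fr (φ (g i)) (hg i) := fun i => by simp [Θ, T', val]
  have hΘT : ∀ j, Θ (T j) = fr (φ (Y j)) (hgY j) := fun j => by simp [Θ, T, val]
  have hΘC : Θ (MvPolynomial.C π) = πA' := by
    rw [← MvPolynomial.algebraMap_eq, AlgHom.commutes]
    exact IsScalarTower.algebraMap_apply R A A' π
  have hembC : emb (MvPolynomial.C π) = MvPolynomial.C π := rename_C _ _
  let topRel : Fin (c + r) → MvPolynomial (Fin (n + (r + e))) R :=
    Fin.append (fun l => emb (f' l)) (fun i => emb (g i) - MvPolynomial.C π * T' i)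
  let botRel : Fin e → MvPolynomial (Fin (n + (r + e))) R := fun j =>
    emb u * T j - emb (α j) - ∑ i, emb (t j (Fin.natAdd c i)) * T' i
  let L : Fin ((c + r) + e) → MvPolynomial (Fin (n + (r + e))) R := Fin.append topRel botRel
  let 𝔏 := Ideal.span (Set.range L)
  have hLf : ∀ l, emb (f' l) ∈ 𝔏 := fun l =>
    Ideal.subset_span ⟨Fin.castAdd e (Fin.castAdd r l), by simp [L, topRel]⟩
  have hLg : ∀ i, emb (g i) - MvPolynomial.C π * T' i ∈ 𝔏 := fun i =>
    Ideal.subset_span ⟨Fin.castAdd e (Fin.natAdd c i), by simp [L, topRel]⟩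
  have hLY : ∀ j, botRel j ∈ 𝔏 := fun j =>
    Ideal.subset_span ⟨Fin.natAdd (c + r) j, by simp [L]⟩
  have hΘL : ∀ l, Θ (L l) = 0 := by
    intro l
    refine Fin.addCases (fun l => ?_) (fun j => ?_) l
    · rw [show L (Fin.castAdd e l) = topRel l from Fin.append_left _ _ l]
      refine Fin.addCases (fun l => ?_) (fun i => ?_) l
      · simp [topRel, hΘemb, hf']
      · rw [show topRel (Fin.natAdd c i) = _ from Fin.append_right _ _ i, map_sub, map_mul, hΘemb,
          hΘT', hΘC, hfr _ (hg i), sub_self]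
    · rw [show L (Fin.natAdd (c + r) j) = botRel j from Fin.append_right _ _ j]
      refine hcancel ?_
      have h1 := congrArg (fun z => algebraMap A A' (φ z)) (htα j)
      simp only [map_add, map_mul, map_sum, Fin.sum_univ_add, Fin.append_left, Fin.append_right,
        hf', map_zero, mul_zero, Finset.sum_const_zero, zero_add] at h1
      simp only [botRel, map_sub, map_mul, map_sum, hΘemb, hΘT', hΘT, mul_zero, mul_sub,
        Finset.mul_sum]
      rw [sub_sub, sub_eq_zero, mul_left_comm, hfr _ (hgY j), h1, add_comm]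
      congr 1
      · rw [mul_comm]
        congr 1
        rw [← hΘC, ← hembC, hΘemb]
      · exact Finset.sum_congr rfl fun i _ => by rw [mul_left_comm, hfr _ (hg i)]
  have hΘsurj : Function.Surjective Θ := by
    rintro ⟨y, hy⟩
    suffices ∃ z, (Θ z : Aπ) = y by
      obtain ⟨z, hz⟩ := this
      exact ⟨z, Subtype.ext hz⟩
    induction hy using Algebra.adjoin_induction with
    | mem q hq =>
      obtain ⟨x, hx, rfl⟩ := hq
      obtain ⟨x', rfl⟩ := hφ x
      obtain ⟨cY, hcY⟩ := (Submodule.mem_span_range_iff_exists_fun _).1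
        (hY.ge (show x' ∈ p.comap φ from hx))
      refine ⟨∑ j, emb (cY j) * T j, congrArg Subtype.val (hcancel (y' := fr (φ x') hx) ?_)⟩
      rw [map_sum, Finset.mul_sum, hfr _ hx, ← hcY, map_sum, map_sum]
      refine Finset.sum_congr rfl fun j _ => ?_
      rw [map_mul, hΘemb, hΘT, mul_left_comm, hfr _ (hgY j), smul_eq_mul, map_mul, map_mul]
    | algebraMap x =>
      obtain ⟨x', rfl⟩ := hφ x
      exact ⟨emb x', by rw [hΘemb]; rfl⟩
    | add y z _ _ ihy ihz =>
      obtain ⟨a, rfl⟩ := ihy
      obtain ⟨b, rfl⟩ := ihz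
      exact ⟨a + b, by rw [map_add]; rfl⟩
    | mul y z _ _ ihy ihz =>
      obtain ⟨a, rfl⟩ := ihy
      obtain ⟨b, rfl⟩ := ihz
      exact ⟨a * b, by rw [map_mul]; rfl⟩
  -- the point
  let P' : Ideal A' := (maximalIdeal Λ).comap φ'.toRingHom
  let Q := P'.comap Θ
  have hnotQ : ∀ z, φ z ∉ p → emb z ∉ Q := fun z hz hzQ => hz (by
    have h1 : φ' (Θ (emb z)) ∈ maximalIdeal Λ := hzQ
    rw [hΘemb, AlgHom.commutes] at h1
    rw [hp]
    exact h1)
  -- the Jacobian
  let tv : Fin e → Fin (n + (r + e)) := fun j => Fin.natAdd n (Fin.natAdd r j)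
  let cols' : Fin ((c + r) + e) → Fin (n + (r + e)) :=
    Fin.append (fun l => Fin.castAdd (r + e) (cols l)) tv
  have hpX : ∀ (i : Fin n) (v : Fin (r + e)),
      pderiv (Fin.castAdd (r + e) i) (X (Fin.natAdd n v) : MvPolynomial (Fin (n + (r + e))) R) = 0 :=
    fun i v => pderiv_X_of_ne (fun h => by
      have := congrArg Fin.val h
      simp at this
      omega)
  have hpe : ∀ (j : Fin e) z, pderiv (tv j) (emb z) = 0 := fun j z => by
    refine pderiv_eq_zero_of_notMem_vars fun hv => ?_
    obtain ⟨i, -, hi⟩ := Finset.mem_image.1 (vars_rename _ _ hv)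
    have := congrArg Fin.val hi
    simp [tv] at this
    omega
  have hpe' : ∀ (i : Fin n) z, pderiv (Fin.castAdd (r + e) i) (emb z) = emb (pderiv i z) :=
    fun i z => pderiv_rename (Fin.castAdd_injective _ _) _ _
  have hJ : (Matrix.of fun k l => pderiv (cols' l) (L k)).det =
      emb (Matrix.of fun k l => pderiv (cols l) (Fin.append f' g k)).det * emb u ^ e := by
    have hpT' : ∀ (j : Fin e) i, pderiv (tv j) (T' i) = 0 := fun j i =>
      pderiv_X_of_ne (fun h => by
        have := congrArg Fin.val h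
        simp [tv] at this
        omega)
    have hblock : (Matrix.of fun k l => pderiv (cols' l) (L k)).submatrix finSumFinEquiv finSumFinEquiv =
        Matrix.fromBlocks ((Matrix.of fun k l => pderiv (cols l) (Fin.append f' g k)).map emb) 0
          (Matrix.of fun j l => pderiv (Fin.castAdd (r + e) (cols l)) (botRel j))
          (emb u • (1 : Matrix (Fin e) (Fin e) _)) := by
      ext (k | j) (l | j') : 2
      · simp only [Matrix.submatrix_apply, Matrix.of_apply, finSumFinEquiv_apply_left, L, cols',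
          Fin.append_left, Matrix.fromBlocks_apply₁₁, Matrix.map_apply]
        refine Fin.addCases (fun k => ?_) (fun i => ?_) k
        · simp [topRel, hpe']
        · simp [topRel, hpe', Derivation.leibniz, T', hpX]
      · simp only [Matrix.submatrix_apply, Matrix.of_apply, finSumFinEquiv_apply_left,
          finSumFinEquiv_apply_right, L, cols', Fin.append_left, Fin.append_right,
          Matrix.fromBlocks_apply₁₂, Matrix.zero_apply]
        refine Fin.addCases (fun k => ?_) (fun i => ?_) k
        · simp [topRel, hpe]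
        · simp [topRel, hpe, Derivation.leibniz, hpT']
      · simp [L, cols', Fin.append_left, Fin.append_right]
      · simp only [Matrix.submatrix_apply, Matrix.of_apply, finSumFinEquiv_apply_right, L, cols',
          Fin.append_right, Matrix.fromBlocks_apply₂₂, Matrix.smul_apply, smul_eq_mul]
        simp only [botRel, map_sub, map_sum, Derivation.leibniz, hpe, hpT', smul_zero, add_zero,
          Finset.sum_const_zero, sub_zero, smul_eq_mul]
        rcases eq_or_ne j j' with rfl | hne
        · simp [T, tv]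
        · have hz : pderiv (tv j') (T j) = 0 := pderiv_X_of_ne (fun hh' =>
            hne (Fin.natAdd_injective _ _ (Fin.natAdd_injective _ _ hh')))
          simp [Matrix.one_apply_ne hne, hz]
    rw [← Matrix.det_submatrix_equiv_self finSumFinEquiv, hblock, Matrix.det_fromBlocks_zero₁₂,
      Matrix.det_smul, Matrix.det_one, mul_one, Fintype.card_fin, AlgHom.map_det]
    rfl
  have hJQ : (Matrix.of fun k l => pderiv (cols' l) (L k)).det ∉ Q := by
    rw [hJ]
    intro hQ
    rcases Ideal.IsPrime.mem_or_mem inferInstance hQ with h' | h'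
    · exact hnotQ _ hdet h'
    · exact hnotQ _ hu (Ideal.IsPrime.mem_of_pow_mem inferInstance _ h')
  -- the ring cut out by the equations is a domain near the point
  let B := MvPolynomial (Fin (n + (r + e))) R ⧸ 𝔏
  have hLker : 𝔏 ≤ RingHom.ker Θ.toRingHom :=
    Ideal.span_le.2 (by rintro _ ⟨l, rfl⟩; exact hΘL l)
  let ψ : B →ₐ[R] A' := Ideal.Quotient.liftₐ _ Θ fun z hz => hLker hz
  let PB : Ideal B := P'.comap ψ
  have : Algebra.FinitePresentation R B :=
    Algebra.FinitePresentation.quotient (Submodule.fg_span (Set.finite_range L))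
  have : Algebra.IsSmoothAt R PB := Basic.isSmoothAt_of_leading (Ideal.Quotient.mkₐ R _)
    Ideal.Quotient.mk_surjective L (Ideal.mk_ker) L
    (fun l => Ideal.Quotient.eq_zero_iff_mem.2 (Ideal.subset_span ⟨l, rfl⟩)) cols' 1
    (fun k => by rw [one_mul]; exact Ideal.subset_span ⟨k, rfl⟩) PB (by rw [one_mul]; exact hJQ)
  have := Basic.isRegularLocalRing_of_isSmoothAt (R := R) PB
  have := Groth.Agent.Lib.Regular.Quotient.isDomain (Localization.AtPrime PB)
  let ιP : MvPolynomial (Fin (n + (r + e))) R →+* Localization.AtPrime PB :=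
    (algebraMap B _).comp (Ideal.Quotient.mk 𝔏)
  have hι0 : ∀ z ∈ 𝔏, ιP z = 0 := fun z hz => by
    show algebraMap B _ (Ideal.Quotient.mk 𝔏 z) = 0
    rw [Ideal.Quotient.eq_zero_iff_mem.2 hz, map_zero]
  have hιQ : ∀ z, z ∉ Q → ιP z ≠ 0 := fun z hz h0 => by
    obtain ⟨⟨w, hw⟩, hwz⟩ := (IsLocalization.map_eq_zero_iff PB.primeCompl _ _).1 h0
    obtain ⟨w, rfl⟩ := Ideal.Quotient.mk_surjective w
    rw [← map_mul, Ideal.Quotient.eq_zero_iff_mem] at hwz
    have h1 : φ' (Θ (w * z)) = 0 := by rw [show Θ (w * z) = 0 from hLker hwz, map_zero]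
    rw [map_mul, map_mul, mul_eq_zero] at h1
    rcases h1 with h1 | h1
    · exact hw (show φ' (Θ w) ∈ maximalIdeal Λ by rw [h1]; exact zero_mem _)
    · exact hz (show φ' (Θ z) ∈ maximalIdeal Λ by rw [h1]; exact zero_mem _)
  have hιπ : ιP (MvPolynomial.C π) ≠ 0 := fun h0 => by
    obtain ⟨⟨w, hw⟩, hwz⟩ := (IsLocalization.map_eq_zero_iff PB.primeCompl _ _).1 h0
    obtain ⟨w, rfl⟩ := Ideal.Quotient.mk_surjective w
    rw [← map_mul, Ideal.Quotient.eq_zero_iff_mem] at hwz
    have h1 : φ' (Θ (w * MvPolynomial.C π)) = 0 := by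
      rw [show Θ (w * MvPolynomial.C π) = 0 from hLker hwz, map_zero]
    rw [map_mul, map_mul, hΘC, AlgHom.commutes, mul_eq_zero] at h1
    exact hw (show φ' (Θ w) ∈ maximalIdeal Λ by rw [h1.resolve_right hπΛ]; exact zero_mem _)
  -- homogenisation
  let D := emb u * MvPolynomial.C π
  let qL : MvPolynomial (Fin (n + (r + e))) R →+* B := Ideal.Quotient.mk 𝔏
  have hq0 : ∀ z ∈ 𝔏, qL z = 0 := fun z hz => Ideal.Quotient.eq_zero_iff_mem.2 hz
  have hsat : ∀ z, ∃ (N : ℕ) (w : MvPolynomial (Fin n) R), qL (D ^ N * z) = qL (emb w) := by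
    intro z
    induction z using MvPolynomial.induction_on with
    | C a => exact ⟨0, MvPolynomial.C a, by simp [emb]⟩
    | add x y hx hy =>
      obtain ⟨N, w, hw⟩ := hx
      obtain ⟨M, v, hv⟩ := hy
      refine ⟨N + M, (u * MvPolynomial.C π) ^ M * w + (u * MvPolynomial.C π) ^ N * v, ?_⟩
      simp only [map_mul, map_add, map_pow, hembC] at hw hv ⊢
      rw [← hw, ← hv]
      simp only [D, map_mul, pow_add]
      ring
    | mul_X x v hx =>
      obtain ⟨N, w, hw⟩ := hx
      obtain ⟨M, b, hb⟩ : ∃ (M : ℕ) (b : MvPolynomial (Fin n) R),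
          qL (D ^ M * X v) = qL (emb b) := by
        refine Fin.addCases (fun i => ⟨0, X i, by simp [emb]⟩) (fun v => ?_) v
        refine Fin.addCases (fun i => ⟨1, u * g i, ?_⟩) (fun j => ⟨1, u * Y j, ?_⟩) v
        · have h0 := hq0 _ (hLg i)
          simp only [map_sub, map_mul, sub_eq_zero] at h0
          simp only [D, pow_one, map_mul]
          rw [h0, mul_assoc]
        · have h0 := hq0 _ (hLY j)
          simp only [botRel, map_sub, map_mul, map_sum, sub_sub, sub_eq_zero, map_add] at h0
          have h1 := congrArg (fun z => qL (emb z)) (htα j)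
          simp only [map_add, map_mul, map_sum, Fin.sum_univ_add, Fin.append_left,
            Fin.append_right, fun l => hq0 _ (hLf l), mul_zero, Finset.sum_const_zero,
            zero_add, hembC] at h1
          simp only [D, pow_one, map_mul]
          rw [mul_right_comm, h0, h1, add_mul, add_comm]
          congr 1
          rw [Finset.sum_mul]
          refine Finset.sum_congr rfl fun i _ => ?_
          have h2 := hq0 _ (hLg i)
          simp only [map_sub, map_mul, sub_eq_zero] at h2
          rw [h2]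
          ring
      refine ⟨N + M, w * b, ?_⟩
      simp only [map_mul, map_pow] at hw hb ⊢
      rw [← hw, ← hb, pow_add]
      ring
  obtain ⟨m₂, F, hF⟩ := Submodule.fg_iff_exists_fin_generating_family.1
    (IsNoetherian.noetherian (RingHom.ker Θ.toRingHom))
  have hkill : ∀ k, ∃ s, s ∉ Q ∧ s * F k ∈ 𝔏 := by
    intro k
    have hk : Θ (F k) = 0 := hF.le (Submodule.subset_span ⟨k, rfl⟩)
    obtain ⟨N, w, hw⟩ := hsat (F k)
    have hd : D ^ N * F k - emb w ∈ 𝔏 := Ideal.Quotient.eq_zero_iff_mem.1 (by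
      show qL _ = 0
      rw [map_sub, hw, sub_self])
    have hφw : φ w = 0 := hinjA (by
      have h2 : Θ (D ^ N * F k - emb w) = 0 := hLker hd
      rw [map_sub, map_mul, hk, mul_zero, zero_sub, neg_eq_zero, hΘemb] at h2
      rw [h2, map_zero])
    obtain ⟨cw, rfl⟩ := (Submodule.mem_span_range_iff_exists_fun _).1 (hker.le hφw)
    have h3 : ιP (emb (∑ k, cw k • f k)) * ιP (emb h) = 0 := by
      rw [← map_mul, ← map_mul]
      refine hι0 _ ?_
      have h2 : (∑ k, cw k • f k) * h ∈ Ideal.span (Set.range f') := by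
        rw [Finset.sum_mul]
        refine Ideal.sum_mem _ fun k _ => ?_
        rw [smul_eq_mul, mul_assoc, mul_comm (f k)]
        exact Ideal.mul_mem_left _ _ (hhf k)
      have h2' := Ideal.mem_map_of_mem emb h2
      refine SetLike.le_def.1 ?_ h2'
      rw [Ideal.map_span, Ideal.span_le]
      rintro _ ⟨_, ⟨l, rfl⟩, rfl⟩
      exact hLf l
    have h4 : ιP (D ^ N * F k) = 0 := by
      rw [show ιP (D ^ N * F k) = ιP (emb (∑ k, cw k • f k)) from congrArg (algebraMap B _) hw]
      exact (mul_eq_zero.1 h3).resolve_right (hιQ _ (hnotQ _ hh))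
    rw [map_mul, map_pow, mul_eq_zero] at h4
    have h5 : ιP (F k) = 0 := h4.resolve_left (pow_ne_zero _ (by
      rw [map_mul]; exact mul_ne_zero (hιQ _ (hnotQ _ hu)) hιπ))
    obtain ⟨⟨s', hs'⟩, hs'd⟩ := (IsLocalization.map_eq_zero_iff PB.primeCompl _ _).1 h5
    obtain ⟨s', rfl⟩ := Ideal.Quotient.mk_surjective s'
    rw [← map_mul, Ideal.Quotient.eq_zero_iff_mem] at hs'd
    exact ⟨s', hs', hs'd⟩
  choose s hs hsF using hkill
  refine Basic.isSmoothAt_of_leading Θ hΘsurj F hF.symm L hΘL cols' (∏ k, s k) (fun k => ?_) _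
    (fun hQ => ?_)
  · rw [← Finset.mul_prod_erase Finset.univ s (Finset.mem_univ k), mul_comm (s k), mul_assoc]
    exact Ideal.mul_mem_left _ _ (hsF k)
  · rcases Ideal.IsPrime.mem_or_mem (inferInstance : Q.IsPrime) (show (∏ k, s k) *
        (Matrix.of fun j l => pderiv (cols' l) (L j)).det ∈ Q from hQ) with h' | h'
    · obtain ⟨k, -, hk⟩ := Ideal.IsPrime.prod_mem_iff.1 h'
      exact hs k hk
    · exact hJQ h'

end Groth.Agent.Lib.Smoothing.Neron.Blowup
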